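import Cfsg.Agent.Lib.Spor.Fi22.PairCent.EForm
import Cfsg.Agent.Lib.Spor.Fi22.PairCent.Outer
import Cfsg.Agent.Lib.ThreeTransp.LargeFitting

/-!
In the automorphism group of Fi22 the centraliser of the product of two commuting transpositions has a large
extraspecial subgroup of order 2^11 as generalized Fitting subgroup, with quotient Aut PSU(4,2).
-/

set_option autoImplicit false
set_option maxRecDepth 100000

namespace CfsgLib.Spor.Fi22.PairCent

open CfsgLib.PresCert Cfsg.Spor CfsgLib.ThreeTransp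

local instance : Finite Cfsg.Spor.Fi22 := Fi22.finite

local notation "𝔸" => MulAut Cfsg.Spor.Fi22

/-- conjugation -/
noncomputable abbrev inn : Cfsg.Spor.Fi22 →* 𝔸 := MulAut.conj

theorem aut_finite : Finite 𝔸 :=
  Finite.of_injective (fun f : 𝔸 => (f : Cfsg.Spor.Fi22 → Cfsg.Spor.Fi22)) fun _ _ h => MulEquiv.ext (congrFun h)

local instance : Finite 𝔸 := aut_finite

theorem tau_inn (x : Cfsg.Spor.Fi22) : tau * inn x = inn (tau x) * tau := by
  ext y
  simp [MulAut.mul_apply, MulAut.conj_apply]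

theorem inn_inj {x y : Cfsg.Spor.Fi22} (h : inn x = inn y) : x = y := conj_eq_conj h

theorem inn_ne_tau (x y : Cfsg.Spor.Fi22) : inn x ≠ inn y * tau := fun h => tau_outer
  ⟨y⁻¹ * x, by rw [map_mul, map_inv, show MulAut.conj x = inn x from rfl, h, inv_mul_cancel_left]⟩

theorem inn_tau_inj {x y : Cfsg.Spor.Fi22} (h : inn x * tau = inn y * tau) : x = y :=
  inn_inj (mul_right_cancel h)

theorem prod_ii (x y : Cfsg.Spor.Fi22) : inn x * inn y = inn (x * y) := (map_mul inn x y).symm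

theorem prod_it (x y : Cfsg.Spor.Fi22) : inn x * (inn y * tau) = inn (x * y) * tau := by
  rw [← mul_assoc, prod_ii]

theorem prod_ti (x y : Cfsg.Spor.Fi22) : inn x * tau * inn y = inn (x * tau y) * tau := by
  rw [mul_assoc, tau_inn, ← mul_assoc, prod_ii]

theorem prod_tt (x y : Cfsg.Spor.Fi22) : inn x * tau * (inn y * tau) = inn (x * tau y) := by
  rw [← mul_assoc, prod_ti, mul_assoc, tau_sq, mul_one]

theorem inv_inn_tau (x : Cfsg.Spor.Fi22) : (inn x * tau)⁻¹ = inn (tau x⁻¹) * tau :=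
  inv_eq_of_mul_eq_one_right (by rw [prod_tt, tau_tau, mul_inv_cancel, map_one])

/-- the candidate extraspecial subgroup -/
noncomputable def qGrp : Subgroup 𝔸 where
  carrier := {φ | ∃ e ∈ eGrp, φ = inn e ∨ φ = inn e * tau}
  one_mem' := ⟨1, one_mem _, Or.inl (map_one inn).symm⟩
  mul_mem' := by
    rintro _ _ ⟨x, hx, rfl | rfl⟩ ⟨y, hy, rfl | rfl⟩
    · exact ⟨_, mul_mem hx hy, Or.inl (prod_ii x y)⟩
    · exact ⟨_, mul_mem hx hy, Or.inr (prod_it x y)⟩
    · exact ⟨_, mul_mem hx (tau_eGrp hy), Or.inr (prod_ti x y)⟩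
    · exact ⟨_, mul_mem hx (tau_eGrp hy), Or.inl (prod_tt x y)⟩
  inv_mem' := by
    rintro _ ⟨x, hx, rfl | rfl⟩
    · exact ⟨_, inv_mem hx, Or.inl (map_inv inn x).symm⟩
    · exact ⟨_, tau_eGrp (inv_mem hx), Or.inr (inv_inn_tau x)⟩

theorem inn_qGrp {x : Cfsg.Spor.Fi22} (hx : x ∈ eGrp) : inn x ∈ qGrp := ⟨x, hx, Or.inl rfl⟩

theorem tau_qGrp : tau ∈ qGrp := ⟨1, one_mem _, Or.inr (by rw [map_one, one_mul])⟩

theorem inn_qGrp_iff {x : Cfsg.Spor.Fi22} : inn x ∈ qGrp ↔ x ∈ eGrp :=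
  ⟨fun ⟨e, he, h⟩ => h.elim (fun h => inn_inj h ▸ he) (fun h => absurd h (inn_ne_tau x e)), inn_qGrp⟩

theorem card_qGrp : Nat.card qGrp = 2 ^ 11 := by
  obtain ⟨f, hf⟩ : ∃ f : eGrp × Bool → qGrp, ∀ p : eGrp × Bool,
      ((f p : qGrp) : 𝔸) = cond p.2 (inn p.1 * tau) (inn p.1) :=
    ⟨fun p => ⟨cond p.2 (inn p.1 * tau) (inn p.1), p.1, p.1.2, by cases p.2; exacts [Or.inl rfl, Or.inr rfl]⟩,
      fun _ => rfl⟩
  have hb : Function.Bijective f := by
    refine ⟨fun p q h => ?_, fun φ => ?_⟩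
    · have h' := congrArg Subtype.val h
      rw [hf, hf] at h'
      obtain ⟨x, s⟩ := p
      obtain ⟨y, t⟩ := q
      cases s <;> cases t <;> simp only [cond_true, cond_false] at h'
      · rw [Subtype.ext (inn_inj h')]
      · exact absurd h' (inn_ne_tau _ _)
      · exact absurd h'.symm (inn_ne_tau _ _)
      · rw [Subtype.ext (inn_tau_inj h')]
    · obtain ⟨φ, x, hx, rfl | rfl⟩ := φ
      · exact ⟨(⟨x, hx⟩, false), Subtype.ext (hf _)⟩
      · exact ⟨(⟨x, hx⟩, true), Subtype.ext (hf _)⟩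
  rw [← Nat.card_eq_of_bijective f hb, Nat.card_prod, card_eGrp]
  simp

theorem isPGroup_qGrp : IsPGroup 2 qGrp := IsPGroup.of_card card_qGrp

/-- the product of the pair as an automorphism -/
noncomputable def jA : 𝔸 := inn gz

theorem jA_sq : jA * jA = 1 := by rw [jA, prod_ii, gz_sq, map_one]

theorem jA_ne : jA ≠ 1 := fun h => gz_ne (inn_inj (h.trans (map_one inn).symm))

theorem jA_qGrp : jA ∈ qGrp := inn_qGrp gz_eGrp

/-- the centraliser of the product in the automorphism group -/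
theorem mem_cAut {φ : 𝔸} : φ ∈ Subgroup.centralizer ({jA} : Set 𝔸) ↔
    ∃ c ∈ cGrp, φ = inn c ∨ φ = inn c * tau := by
  rw [Subgroup.mem_centralizer_singleton_iff]
  constructor
  · intro h
    rcases aut_cases φ with ⟨c, rfl⟩ | ⟨c, rfl⟩
    · refine ⟨c, Subgroup.mem_centralizer_singleton_iff.2 ?_, Or.inl rfl⟩
      rw [jA, prod_ii, prod_ii] at h
      exact inn_inj h
    · refine ⟨c, Subgroup.mem_centralizer_singleton_iff.2 ?_, Or.inr rfl⟩
      rw [jA, show (MulAut.conj c : 𝔸) = inn c from rfl, prod_ti, prod_it, tau_gz] at h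
      exact inn_tau_inj h
  · rintro ⟨c, hc, rfl | rfl⟩
    · rw [jA, prod_ii, prod_ii, gz_comm hc]
    · rw [jA, prod_ti, prod_it, tau_gz, gz_comm hc]

theorem qGrp_le : qGrp ≤ Subgroup.centralizer ({jA} : Set 𝔸) := fun _ ⟨e, he, h⟩ =>
  mem_cAut.2 ⟨e, kGrp_le.1 (eGrp_le he), h⟩

theorem qGrp_normalizes {m : 𝔸} (hm : m ∈ Subgroup.centralizer ({jA} : Set 𝔸)) :
    ∀ q ∈ qGrp, m * q * m⁻¹ ∈ qGrp := by
  have key : ∀ c ∈ cGrp, ∀ q ∈ qGrp, inn c * q * (inn c)⁻¹ ∈ qGrp := by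
    rintro c hc _ ⟨e, he, rfl | rfl⟩
    · rw [← map_inv, prod_ii, prod_ii]
      exact inn_qGrp (conj_eGrp hc he)
    · refine ⟨c * e * (tau c)⁻¹, ?_, Or.inr ?_⟩
      · rw [show c * e * (tau c)⁻¹ = c * e * c⁻¹ * (c * (tau c)⁻¹) by group]
        exact mul_mem (conj_eGrp hc he) (tau_quot hc)
      · rw [prod_it, ← map_inv, prod_ti, map_inv tau]
  obtain ⟨c, hc, rfl | rfl⟩ := mem_cAut.1 hm
  · exact key c hc
  · intro q hq
    rw [show inn c * tau * q * (inn c * tau)⁻¹ = inn c * (tau * q * tau⁻¹) * (inn c)⁻¹ by group]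
    exact key c hc _ (mul_mem (mul_mem tau_qGrp hq) (inv_mem tau_qGrp))

theorem sim_cases {x y : Cfsg.Spor.Fi22} (h : x * y⁻¹ ∈ zGrp) : inn x * (inn y)⁻¹ = 1 ∨ inn x * (inn y)⁻¹ = jA := by
  rw [← map_inv, prod_ii]
  rcases mem_zGrp.1 h with h | h <;> rw [h]
  · exact Or.inl (map_one inn)
  · exact Or.inr rfl

theorem tau_zGrp {x : Cfsg.Spor.Fi22} (hx : x ∈ eGrp) : tau x * x⁻¹ ∈ zGrp := by
  rcases tau_step hx with h | h <;> rw [h]
  · rw [mul_inv_cancel]; exact one_mem _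
  · rw [mul_inv_cancel_right]; exact Subgroup.mem_zpowers gz

theorem zGrp_mul {x y x' y' : Cfsg.Spor.Fi22} (_hy' : y' ∈ eGrp) (hx : x * y⁻¹ ∈ zGrp) (hy : x' * y'⁻¹ ∈ zGrp)
    (hy2 : y ∈ eGrp) : x * x' * (y * y')⁻¹ ∈ zGrp := by
  have e : x * x' * (y * y')⁻¹ = x * y⁻¹ * (y * (x' * y'⁻¹) * y⁻¹) := by group
  rw [e, zGrp_comm hy2 hy, mul_inv_cancel_right]
  exact mul_mem hx hy

theorem refl_zGrp (x : Cfsg.Spor.Fi22) : x * x⁻¹ ∈ zGrp := by rw [mul_inv_cancel]; exact one_mem _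

theorem swap_zGrp {x y : Cfsg.Spor.Fi22} (hx : x ∈ eGrp) (hy : y ∈ eGrp) : x * y * (y * x)⁻¹ ∈ zGrp := by
  have := comm_mem hx hy
  rwa [mul_inv_rev, ← mul_assoc]

theorem comm_qGrp {a b : 𝔸} (ha : a ∈ qGrp) (hb : b ∈ qGrp) :
    a * b * a⁻¹ * b⁻¹ = 1 ∨ a * b * a⁻¹ * b⁻¹ = jA := by
  rw [show a * b * a⁻¹ * b⁻¹ = a * b * (b * a)⁻¹ by group]
  have canc : ∀ u v : Cfsg.Spor.Fi22, inn u * tau * (inn v * tau)⁻¹ = inn u * (inn v)⁻¹ := fun u v => by group
  obtain ⟨x, hx, rfl | rfl⟩ := ha <;> obtain ⟨y, hy, rfl | rfl⟩ := hb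
  · rw [prod_ii, prod_ii]
    exact sim_cases (swap_zGrp hx hy)
  · rw [prod_it, prod_ti, canc]
    refine sim_cases ?_
    have h := mul_mem (swap_zGrp hx hy) (inv_mem (zGrp_mul (x := y) (y := y) (x' := tau x) (y' := x) hx
      (refl_zGrp y) (tau_zGrp hx) hy))
    rwa [show x * y * (y * x)⁻¹ * (y * tau x * (y * x)⁻¹)⁻¹ = x * y * (y * tau x)⁻¹ by group] at h
  · rw [prod_ti, prod_it, canc]
    refine sim_cases ?_
    have h := mul_mem (zGrp_mul (x := x) (y := x) (x' := tau y) (y' := y) hy (refl_zGrp x) (tau_zGrp hy) hx)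
      (swap_zGrp hx hy)
    rwa [show x * tau y * (x * y)⁻¹ * (x * y * (y * x)⁻¹) = x * tau y * (y * x)⁻¹ by group] at h
  · rw [prod_tt, prod_tt]
    refine sim_cases ?_
    have h1 := zGrp_mul (x := x) (y := x) (x' := tau y) (y' := y) hy (refl_zGrp x) (tau_zGrp hy) hx
    have h2 := zGrp_mul (x := y) (y := y) (x' := tau x) (y' := x) hx (refl_zGrp y) (tau_zGrp hx) hy
    have h := mul_mem (mul_mem h1 (swap_zGrp hx hy)) (inv_mem h2)
    rwa [show x * tau y * (x * y)⁻¹ * (x * y * (y * x)⁻¹) * (y * tau x * (y * x)⁻¹)⁻¹ =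
      x * tau y * (y * tau x)⁻¹ by group] at h

theorem sq_qGrp {a : 𝔸} (ha : a ∈ qGrp) : a * a = 1 ∨ a * a = jA := by
  obtain ⟨x, hx, rfl | rfl⟩ := ha
  · rw [prod_ii]
    rcases eGrp_sq hx with h | h <;> rw [h]
    exacts [Or.inl (map_one inn), Or.inr rfl]
  · rw [prod_tt]
    rcases tau_step hx with h | h <;> rw [h]
    · rcases eGrp_sq hx with h | h <;> rw [h]
      exacts [Or.inl (map_one inn), Or.inr rfl]
    · rw [← mul_assoc, gz_comm (kGrp_le.1 (eGrp_le hx)), mul_assoc]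
      rcases eGrp_sq hx with h | h <;> rw [h]
      · exact Or.inr (by rw [mul_one]; rfl)
      · exact Or.inl (by rw [gz_sq, map_one])

/-- only the product of the pair centralises the subgroup -/
theorem centralise_qGrp {m : 𝔸} (hm : ∀ q ∈ qGrp, q * m = m * q) : m = 1 ∨ m = jA := by
  have hmC : m ∈ Subgroup.centralizer ({jA} : Set 𝔸) :=
    Subgroup.mem_centralizer_singleton_iff.2 (hm jA jA_qGrp).symm
  obtain ⟨c, hc, rfl | rfl⟩ := mem_cAut.1 hmC
  · have hcom : ∀ e ∈ eGrp, c * e = e * c := fun e he => by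
      have h := hm _ (inn_qGrp he)
      rw [prod_ii, prod_ii] at h
      exact (inn_inj h).symm
    have hcE : c ∈ eGrp := mem_eGrp_of_centralise hc fun e he => Or.inl (by rw [hcom e he, mul_inv_cancel_right])
    have htau : tau c = c := by
      have h := hm _ tau_qGrp
      rw [tau_inn] at h
      exact inn_tau_inj h
    obtain ⟨-, -, n3, -, -⟩ := four_ne
    rcases eGrp_centre hcE hcom with rfl | rfl | rfl | rfl
    · exact Or.inl (map_one inn)
    · exact absurd (htau.symm.trans tau_ga) n3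
    · exact absurd (htau.symm.trans tau_gb).symm n3
    · exact Or.inr rfl
  · exfalso
    have hcom : ∀ e ∈ eGrp, c * tau e = e * c := fun e he => by
      have h := hm _ (inn_qGrp he)
      rw [prod_it, prod_ti] at h
      exact (inn_tau_inj h).symm
    have hcE : c ∈ eGrp := mem_eGrp_of_centralise hc fun e he => by
      rcases tau_step he with h | h
      · left
        rw [← h, hcom e he, h, mul_inv_cancel_right]
      · right
        have h2 := hcom e he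
        rw [h, ← mul_assoc, gz_comm hc, mul_assoc] at h2
        have h3 : c * e = gz * (e * c) := by rw [← h2, ← mul_assoc gz gz, gz_sq, one_mul]
        rw [h3, mul_assoc, mul_inv_cancel_right]
    have h := hcom _ ga_eGrp
    rw [tau_ga, ← xe_zero] at h
    have h1 : c * gb = gb * c := by
      have := (Subgroup.mem_centralizer_iff.1 (eGrp_le hcE)) gb (Set.mem_insert_of_mem _ rfl)
      exact this.symm
    rw [h1, xe_zero, mul_left_inj] at h
    exact four_ne.2.2.1 h.symm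

theorem gen_noncomm : ∃ a ∈ qGrp, ∃ b ∈ qGrp, a * b ≠ b * a :=
  ⟨inn Transp.ga, inn_qGrp ga_eGrp, tau, tau_qGrp, fun h => by
    rw [tau_inn, tau_ga] at h
    exact four_ne.2.2.1 (inn_tau_inj h)⟩

theorem qGrp_extraspecial : Cfsg.IsExtraspecial 2 ↥qGrp ∧ centerIn qGrp = Subgroup.zpowers jA :=
  isExtraspecial_of qGrp isPGroup_qGrp jA_qGrp jA_ne jA_sq
    (fun _ he => Subgroup.mem_centralizer_singleton_iff.1 (qGrp_le he))
    (fun _ ha _ hb => comm_qGrp ha hb) (fun _ ha => sq_qGrp ha)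
    (fun _ _ hd => centralise_qGrp hd) gen_noncomm

theorem qGrp_large : Cfsg.IsLargeExtraspecial qGrp := by
  obtain ⟨hE, hZ⟩ := qGrp_extraspecial
  refine large_map_of_conj qGrp hE hZ (fun m hm => ?_) (fun m hm => qGrp_normalizes
    (Subgroup.mem_centralizer_singleton_iff.2 hm)) (g := inn (el gw)) ?_ ?_
  · rw [hZ]
    rcases centralise_qGrp hm with rfl | rfl
    exacts [one_mem _, Subgroup.mem_zpowers _]
  · rw [jA, ← map_inv, prod_ii, prod_ii, gz_conj.1]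
    exact inn_qGrp (xe_eGrp 2 (by norm_num))
  · rw [jA, ← map_inv, prod_ii, prod_ii, gz_conj.1]
    exact fun h => gz_conj.2 (inn_inj h)

theorem qGrp_normal : (qGrp.subgroupOf (Subgroup.centralizer ({jA} : Set 𝔸))).Normal :=
  ⟨fun q hq m => Subgroup.mem_subgroupOf.2 (qGrp_normalizes m.2 _ (Subgroup.mem_subgroupOf.1 hq))⟩

/-- the quotient and the generalized Fitting subgroup -/
theorem aut_main : ∃ _ : (qGrp.subgroupOf (Subgroup.centralizer ({jA} : Set 𝔸))).Normal,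
    Nonempty (↥(Subgroup.centralizer ({jA} : Set 𝔸)) ⧸ qGrp.subgroupOf (Subgroup.centralizer ({jA} : Set 𝔸)) ≃*
      MulAut (Cfsg.PSU 4 QField 2)) ∧
    (Cfsg.generalizedFittingSubgroup ↥(Subgroup.centralizer ({jA} : Set 𝔸))).map
      (Subgroup.centralizer ({jA} : Set 𝔸)).subtype = qGrp := by
  haveI := qGrp_normal
  obtain ⟨Q', hQ'⟩ : ∃ Q', Q' = qGrp.subgroupOf (Subgroup.centralizer ({jA} : Set 𝔸)) := ⟨_, rfl⟩
  obtain ⟨F, hF⟩ : ∃ F : cGrp →* ↥(Subgroup.centralizer ({jA} : Set 𝔸)),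
      ∀ c : cGrp, ((F c : ↥(Subgroup.centralizer ({jA} : Set 𝔸))) : 𝔸) = inn c :=
    ⟨(inn.comp cGrp.subtype).codRestrict _ fun c => mem_cAut.2 ⟨c, c.2, Or.inl rfl⟩, fun _ => rfl⟩
  haveI : Q'.Normal := hQ' ▸ qGrp_normal
  obtain ⟨ψ, hψ⟩ : ∃ ψ, ψ = (QuotientGroup.mk' Q').comp F := ⟨_, rfl⟩
  have hs : Function.Surjective ψ := by
    rintro ⟨m⟩
    obtain ⟨c, hc, h | h⟩ := mem_cAut.1 m.2
    · exact ⟨⟨c, hc⟩, hψ ▸ congrArg QuotientGroup.mk (Subtype.ext ((hF _).trans h.symm))⟩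
    · refine ⟨⟨c, hc⟩, hψ ▸ QuotientGroup.eq.2 ?_⟩
      rw [hQ', Subgroup.mem_subgroupOf, Subgroup.coe_mul, InvMemClass.coe_inv, hF, h, inv_mul_cancel_left]
      exact tau_qGrp
  have hk : ψ.ker = eGrp.subgroupOf cGrp := by
    ext c
    rw [MonoidHom.mem_ker, hψ, MonoidHom.comp_apply, QuotientGroup.mk'_apply, QuotientGroup.eq_one_iff, hQ',
      Subgroup.mem_subgroupOf, Subgroup.mem_subgroupOf, hF, inn_qGrp_iff]
  obtain ⟨hn, ⟨e⟩⟩ := quot_aut
  have f : ↥(Subgroup.centralizer ({jA} : Set 𝔸)) ⧸ Q' ≃* MulAut (Cfsg.PSU 4 QField 2) :=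
    (QuotientGroup.quotientKerEquivOfSurjective ψ hs).symm.trans ((QuotientGroup.quotientMulEquivOfEq hk).trans e)
  subst hQ'
  refine ⟨qGrp_normal, ⟨f⟩, ?_⟩
  haveI : IsSimpleGroup (Cfsg.PSU 4 QField 2) := psu4_simple
  haveI : Finite (Cfsg.PSU 4 QField 2) := Nat.finite_of_card_ne_zero (by rw [card_psu4]; norm_num)
  have hnp : ¬ IsPGroup 2 (Cfsg.PSU 4 QField 2) := fun h => by
    haveI : Fact (Nat.Prime 2) := ⟨Nat.prime_two⟩
    obtain ⟨n, hn⟩ := IsPGroup.iff_card.1 h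
    rw [card_psu4] at hn
    have h3 : 3 ∣ 2 ^ n := hn ▸ by norm_num
    exact absurd (Nat.prime_three.dvd_of_dvd_pow h3) (by norm_num)
  have hc : Subgroup.center (Cfsg.PSU 4 QField 2) = ⊥ := by
    rcases (Subgroup.center (Cfsg.PSU 4 QField 2)).normal_of_characteristic.eq_bot_or_eq_top with h | h
    · exact h
    exfalso
    haveI : IsMulCommutative (Cfsg.PSU 4 QField 2) :=
      ⟨⟨fun a b => Subgroup.mem_center_iff.1 (h ▸ Subgroup.mem_top b) a⟩⟩
    letI : CommGroup (Cfsg.PSU 4 QField 2) := { (inferInstance : Group (Cfsg.PSU 4 QField 2)) with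
      mul_comm := fun a b => Subgroup.mem_center_iff.1 (h ▸ Subgroup.mem_top b) a }
    have hp := IsSimpleGroup.prime_card (α := Cfsg.PSU 4 QField 2)
    rw [card_psu4] at hp
    exact absurd hp (by norm_num)
  have hQ2 : IsPGroup 2 ↥(qGrp.subgroupOf (Subgroup.centralizer ({jA} : Set 𝔸))) :=
    isPGroup_qGrp.of_equiv (Subgroup.subgroupOfEquivOfLe qGrp_le).symm
  rw [fstar_eq_of_quotient _ hQ2 ?_ f fun M hM hp => by
    haveI := hM; exact normal_two_mulAut _ hnp hc M hp]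
  · exact Subgroup.map_subgroupOf_eq_of_le qGrp_le
  · intro m hm
    rw [Subgroup.mem_subgroupOf]
    rcases centralise_qGrp (m := (m : 𝔸)) (fun q hq => congrArg Subtype.val
      (Subgroup.mem_centralizer_iff.1 hm ⟨q, qGrp_le hq⟩ hq)) with h | h <;> rw [h]
    exacts [one_mem _, jA_qGrp]

end CfsgLib.Spor.Fi22.PairCent
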