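import Cfsg.Agent.Lib.Spor.Fi22.PairCent.Normal

/-!
The centre of the centraliser of a commuting pair of transpositions is the group generated by the pair.
-/

set_option autoImplicit false
set_option maxRecDepth 100000

namespace CfsgLib.Spor.Fi22.PairCent

open CfsgLib.PresCert Cfsg.Spor
open CfsgLib.Spor.FischerTypes (cls22)
open CfsgLib.Spor.Fi22.FixPoint (pword Adj adj_iff adj_conj cm okPt okPt_spec)

local instance : Finite Cfsg.Spor.Fi22 := Fi22.finite

/-- a point with its path from the table -/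
noncomputable def look (p : ℕ) : ℕ × List ℕ := (p, (paths.lookup p).getD [])

theorem profile_pts : (profile.all fun p => okPt (look p) && (Nat.beq p 0 || Nat.beq p 7 || inW p)) = true := by
  decide +kernel

theorem profile_ok : (allBelow 3510 fun q =>
    !(profile.all fun p => cm (look p).2 q == cm (look p).2 1) ||
      ([1, 5, 6, 14].any fun r => Nat.beq q r)) = true := by
  decide +kernel

theorem orbit_all : ([1, 5, 6, 14].all fun r => [[], [0], [1], [0, 1]].any fun w => Nat.beq (eApp w 1) r) = true := by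
  decide +kernel

/-- the steps start from known points -/
noncomputable def chainOk : List (ℕ × ℕ × ℕ) → List ℕ → Bool
  | [], known => (List.range 9).all fun k =>
      inW (genPts.getD k 0) || known.any fun x => Nat.beq x (genPts.getD k 0)
  | (a, b, c) :: rest, known =>
    okPt (look a) && Nat.blt b 3510 &&
      (inW a || known.any fun x => Nat.beq x a) && (inW b || known.any fun x => Nat.beq x b) &&
      Nat.beq (Strict.appS Perm.data (pword (look a).2) b) c && chainOk rest (c :: known)

theorem chain_ok : chainOk chain [0, 7, 1] = true := by decide +kernel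

/-- the set reached by the steps -/
theorem chain_fixed {z : Cfsg.Spor.Fi22} (hW : ∀ i : Fin Perm.data.n, inW i = true → π z i = i) :
    ∀ (l : List (ℕ × ℕ × ℕ)) (known : List ℕ), chainOk l known = true →
      (∀ x ∈ known, ∀ i : Fin Perm.data.n, (i : ℕ) = x → π z i = i) →
      ∀ k, ∀ hk : k < 9, π z (genPt k hk) = genPt k hk := by
  intro l
  induction l with
  | nil =>
    intro known h hkn k hk
    rw [chainOk, List.all_eq_true] at h
    have hk' := h k (List.mem_range.2 hk)
    rw [Bool.or_eq_true] at hk'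
    rcases hk' with hk' | hk'
    · exact hW _ hk'
    obtain ⟨x, hx, e⟩ := List.any_eq_true.1 hk'
    exact hkn x hx _ (Nat.eq_of_beq_eq_true e).symm
  | cons s l ih =>
    intro known h hkn
    obtain ⟨a, b, c⟩ := s
    simp only [chainOk, Bool.and_eq_true, Bool.or_eq_true, List.any_eq_true] at h
    obtain ⟨⟨⟨⟨⟨ha, hb⟩, hka⟩, hkb⟩, hc⟩, hrest⟩ := h
    refine ih _ hrest fun x hx => ?_
    rcases List.mem_cons.1 hx with rfl | hx
    swap
    · exact hkn x hx
    intro i hi
    have ha' := ha
    simp only [okPt, Bool.and_eq_true, List.all_eq_true, Nat.blt_eq] at ha'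
    obtain ⟨⟨hP, hPa⟩, halt⟩ := ha'
    rw [Nat.blt_eq] at hb
    obtain ⟨pa, hpa⟩ : ∃ pa : Fin Perm.data.n, (pa : ℕ) = a := ⟨⟨a, halt⟩, rfl⟩
    obtain ⟨pb, hpb⟩ : ∃ pb : Fin Perm.data.n, (pb : ℕ) = b := ⟨⟨b, hb⟩, rfl⟩
    have fixOf : ∀ (x : ℕ) (j : Fin Perm.data.n), (j : ℕ) = x →
        (inW x = true ∨ ∃ y ∈ known, Nat.beq y x = true) → π z j = j := by
      intro x j hj h
      rcases h with h | ⟨y, hy, e⟩
      · exact hW j (hj ▸ h)
      · exact hkn y hy j (hj.trans (Nat.eq_of_beq_eq_true e).symm)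
    have h1 : Commute z (cls22.tp pa) := (cls22.commute_tp_iff z pa).2 (fixOf a pa hpa hka)
    have e : π (cls22.tp pa) pb = i := Fin.ext (by
      rw [tp_path hP (p := pa) ((Nat.eq_of_beq_eq_true hPa).trans hpa.symm), el_img _ ?_, hi, hpb]
      · exact Nat.eq_of_beq_eq_true hc
      · intro j hj
        simp only [pword, List.mem_append, List.mem_reverse, List.mem_singleton] at hj
        rcases hj with (hj | rfl) | hj
        exacts [hP j hj, by norm_num, hP j hj])
    rw [← e, ← Equiv.Perm.mul_apply, ← map_mul, h1.eq, map_mul, Equiv.Perm.mul_apply, fixOf b pb hpb hkb]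

/-- the pair generates the centre of its centraliser -/
theorem center_kGrp : (Subgroup.center kGrp).map kGrp.subtype = Subgroup.closure {Transp.ga, gb} := by
  refine le_antisymm ?_ ((Subgroup.closure_le _).2 ?_)
  swap
  · rintro x hx
    have hxk : x ∈ kGrp := by
      rcases hx with rfl | rfl
      exacts [xe_zero ▸ xe_mem 0 (by norm_num), xe_one ▸ xe_mem 1 (by norm_num)]
    refine ⟨⟨x, hxk⟩, Subgroup.mem_center_iff.2 fun g => Subtype.ext ?_, rfl⟩
    exact ((Subgroup.mem_centralizer_iff.1 g.2) x hx).symm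
  rintro _ ⟨⟨z, hz⟩, hzc, rfl⟩
  show z ∈ Subgroup.closure {Transp.ga, gb}
  have hcomm : ∀ g ∈ kGrp, g * z = z * g := fun g hg =>
    congrArg Subtype.val (Subgroup.mem_center_iff.1 hzc ⟨g, hg⟩)
  have hW : ∀ i : Fin Perm.data.n, inW i = true → π z i = i := by
    intro i hi
    obtain ⟨-, -, h3, h4⟩ := (inW_iff i).1 hi
    have htp : cls22.tp i ∈ kGrp := mem_kGrp.2 ⟨(adj_iff i i₀).1 h3.symm, (adj_iff i p7).1 h4.symm⟩
    exact (cls22.commute_tp_iff z i).1 (hcomm _ htp).symm
  obtain ⟨h0, h7⟩ := mem_kGrp.1 hz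
  obtain ⟨q1, hq1⟩ : ∃ q : Fin Perm.data.n, (q : ℕ) = 1 := ⟨⟨1, by decide +kernel⟩, rfl⟩
  -- the image of the chosen point
  have hprof : (π z q1 : ℕ) ∈ [1, 5, 6, 14] := by
    have h := allBelow_spec profile_ok (π z q1 : ℕ) (π z q1).2
    rw [Bool.or_eq_true] at h
    rcases h with h | h
    · exfalso
      rw [Bool.not_eq_true', ← Bool.not_eq_true] at h
      refine h (List.all_eq_true.2 fun p hp => ?_)
      have hp2 := List.all_eq_true.1 profile_pts p hp
      simp only [Bool.and_eq_true, Bool.or_eq_true] at hp2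
      obtain ⟨hok, hfix⟩ := hp2
      have hok' := hok
      simp only [okPt, Bool.and_eq_true, Nat.blt_eq] at hok'
      obtain ⟨i, hi⟩ : ∃ i : Fin Perm.data.n, (i : ℕ) = p := ⟨⟨p, hok'.2⟩, rfl⟩
      have hzi : π z i = i := by
        rcases hfix with (e | e) | e
        · rw [show i = i₀ from Fin.ext (hi.trans (Nat.eq_of_beq_eq_true e))]; exact h0
        · rw [show i = p7 from Fin.ext (hi.trans (Nat.eq_of_beq_eq_true e))]; exact h7
        · exact hW i (hi ▸ e)
      rw [beq_iff_eq, Bool.eq_iff_iff, ← hq1, okPt_spec hok hi, okPt_spec hok hi]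
      constructor
      · intro hh
        have := adj_conj z⁻¹ _ _ hh
        have e1 : cls22.π z⁻¹ i = i := by
          rw [map_inv, Equiv.Perm.inv_eq_iff_eq]; exact hzi.symm
        have e2 : cls22.π z⁻¹ (π z q1) = q1 := by
          rw [map_inv]; exact (cls22.π z).symm_apply_apply q1
        rw [e1, e2] at this
        exact this
      · intro hh
        have := adj_conj z _ _ hh
        rw [show cls22.π z i = i from hzi] at this
        exact this
    · obtain ⟨r, hr, e⟩ := List.any_eq_true.1 h
      exact (Nat.eq_of_beq_eq_true e) ▸ hr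
  -- correct by an element of the pair
  obtain ⟨w, hw, hwv⟩ := List.any_eq_true.1 (List.all_eq_true.1 orbit_all _ hprof)
  have hw10 : ∀ k ∈ w, k < 10 ∧ k < 2 := by
    intro k hk
    simp only [List.mem_cons, List.not_mem_nil, or_false] at hw
    rcases hw with rfl | rfl | rfl | rfl <;> simp at hk <;> omega
  obtain ⟨v, hv⟩ : ∃ v, v = (w.reverse.map xe).prod := ⟨_, rfl⟩
  have hvV : v ∈ Subgroup.closure {Transp.ga, gb} := hv ▸ list_prod_mem fun y hy => by
    obtain ⟨k, hk, rfl⟩ := List.mem_map.1 hy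
    have := (hw10 k (List.mem_reverse.1 hk)).2
    interval_cases k
    · rw [xe_zero]; exact Subgroup.subset_closure (by simp)
    · rw [xe_one]; exact Subgroup.subset_closure (by simp)
  have hvq : π v q1 = π z q1 := Fin.ext (by
    rw [hv, eApp_prod w (fun k hk => (hw10 k hk).1), hq1]
    exact Nat.eq_of_beq_eq_true hwv)
  suffices h : v⁻¹ * z = 1 by rwa [← (inv_mul_eq_one.1 h)]
  have hvfix : ∀ i : Fin Perm.data.n, inW i = true ∨ i = i₀ ∨ i = p7 → π v i = i := by
    intro i hi
    have hc : ∀ x ∈ Subgroup.closure {Transp.ga, gb}, π x i = i := by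
      intro x hx
      induction hx using Subgroup.closure_induction with
      | mem x hx =>
        rcases hi with hi | rfl | rfl
        · obtain ⟨-, -, h3, h4⟩ := (inW_iff i).1 hi
          rcases hx with rfl | rfl
          · exact tp_zero ▸ (adj_iff i₀ i).1 h3
          · exact (adj_iff p7 i).1 h4
        · rcases hx with rfl | rfl
          · exact tp_zero ▸ (adj_iff i₀ i₀).1 (Commute.refl _)
          · exact (mem_kGrp.1 (xe_one ▸ xe_mem 1 (by norm_num))).1
        · rcases hx with rfl | rfl
          · exact (mem_kGrp.1 (xe_zero ▸ xe_mem 0 (by norm_num))).2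
          · exact (adj_iff p7 p7).1 (Commute.refl _)
      | one => simp
      | mul a b _ _ iha ihb => rw [map_mul, Equiv.Perm.mul_apply, ihb, iha]
      | inv a _ iha => rw [map_inv, Equiv.Perm.inv_eq_iff_eq, iha]
    exact hc v hvV
  have hz' : ∀ i, π z i = i → π v i = i → π (v⁻¹ * z) i = i := fun i e1 e2 => by
    rw [map_mul, Equiv.Perm.mul_apply, e1, map_inv, Equiv.Perm.inv_eq_iff_eq, e2]
  refine eq_one_of_nine (chain_fixed (fun i hi => hz' i (hW i hi) (hvfix i (Or.inl hi))) chain [0, 7, 1] chain_ok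
    fun x hx i hi => ?_)
  simp only [List.mem_cons, List.not_mem_nil, or_false] at hx
  rcases hx with rfl | rfl | rfl
  · obtain rfl : i = i₀ := Fin.ext hi
    exact hz' _ h0 (hvfix _ (Or.inr (Or.inl rfl)))
  · obtain rfl : i = p7 := Fin.ext hi
    exact hz' _ h7 (hvfix _ (Or.inr (Or.inr rfl)))
  · obtain rfl : i = q1 := Fin.ext (hi.trans hq1.symm)
    rw [map_mul, Equiv.Perm.mul_apply, map_inv, Equiv.Perm.inv_eq_iff_eq, hvq]

end CfsgLib.Spor.Fi22.PairCent
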