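import Cfsg.Agent.Lib.Spor.Fi22.PairCent.Action

/-!
Commutators in the normal subgroup of order 2^10: its centre is generated by the pair; an element centralising
it up to the product of the pair fixes every block; a conjugate of that product inside it.
-/

set_option autoImplicit false
set_option maxRecDepth 100000

namespace CfsgLib.Spor.Fi22.PairCent

open CfsgLib.PresCert Cfsg.Spor
open CfsgLib.Spor.FischerTypes (cls22)
open CfsgLib.Spor.Fi22.FixPoint (Adj adj_iff)
open scoped commutatorElement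

local instance : Finite Cfsg.Spor.Fi22 := Fi22.finite

/-- the group of order two generated by the product of the pair -/
noncomputable def zGrp : Subgroup Cfsg.Spor.Fi22 := Subgroup.zpowers gz

theorem orderOf_gz : orderOf gz = 2 := orderOf_eq_prime (by rw [pow_two, gz_sq]) gz_ne

theorem mem_zGrp {c : Cfsg.Spor.Fi22} : c ∈ zGrp ↔ c = 1 ∨ c = gz := by
  constructor
  · intro hc
    obtain ⟨k, rfl⟩ := Subgroup.mem_zpowers_iff.1 hc
    rcases Int.even_or_odd k with ⟨t, rfl⟩ | ⟨t, rfl⟩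
    · left; rw [← two_mul, zpow_mul, zpow_ofNat, pow_two, gz_sq, one_zpow]
    · right; rw [zpow_add_one, zpow_mul, zpow_ofNat, pow_two, gz_sq, one_zpow, one_mul]
  · rintro (rfl | rfl)
    exacts [one_mem _, Subgroup.mem_zpowers gz]

theorem zGrp_comm {x c : Cfsg.Spor.Fi22} (hx : x ∈ eGrp) (hc : c ∈ zGrp) : x * c = c * x := by
  rcases mem_zGrp.1 hc with rfl | rfl
  · simp
  · exact gz_comm (kGrp_le.1 (eGrp_le hx))

theorem comm_mem {x y : Cfsg.Spor.Fi22} (hx : x ∈ eGrp) (hy : y ∈ eGrp) : ⁅x, y⁆ ∈ zGrp := by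
  rw [commutatorElement_def]
  rcases eGrp_comm hx hy with h | h <;> rw [h] <;> simp [mem_zGrp, mul_assoc]

theorem comm_mul {a b s : Cfsg.Spor.Fi22} (ha : a ∈ eGrp) (hb : b ∈ eGrp) (hs : s ∈ eGrp) :
    ⁅a * b, s⁆ = ⁅a, s⁆ * ⁅b, s⁆ := by
  have e : ⁅a * b, s⁆ = a * ⁅b, s⁆ * a⁻¹ * ⁅a, s⁆ := by simp only [commutatorElement_def]; group
  rw [e, zGrp_comm ha (comm_mem hb hs), mul_inv_cancel_right]
  rcases mem_zGrp.1 (comm_mem hb hs) with h1 | h1 <;> rcases mem_zGrp.1 (comm_mem ha hs) with h2 | h2 <;>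
    simp [h1, h2]

/-- the commutators with the eight generators outside the pair -/
noncomputable def formHom : eGrp →* (Fin 8 → zGrp) :=
  MonoidHom.mk' (fun x k => ⟨⁅(x : Cfsg.Spor.Fi22), xe (2 + k)⁆, comm_mem x.2 (xe_eGrp _ (by omega))⟩)
    fun a b => funext fun k => Subtype.ext (comm_mul a.2 b.2 (xe_eGrp _ (by omega)))

/-- elements dual to the eight generators -/
def duals : List (List ℕ) :=
  [[3, 4, 7, 8], [2, 5, 6, 8, 9], [2, 5, 6, 9], [3, 4, 6], [3, 4, 5], [2], [2, 3], [3, 4]]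

theorem duals_ok : ((List.range 8).all fun k =>
    let w := duals.getD k []
    (w.all fun a => Nat.blt a 10) && (List.range 8).all fun i => (List.range 9).all fun q =>
      Nat.beq (eApp ([2 + i] ++ w) (genPts.getD q 0))
        (eApp (w ++ [2 + i] ++ (if i = k then [0, 1] else [])) (genPts.getD q 0))) = true := by
  decide +kernel

theorem formHom_surjective : Function.Surjective formHom := by
  rw [← MonoidHom.range_eq_top, eq_top_iff]
  intro f _
  refine Subgroup.pi_mem_of_mulSingle_mem f fun k => ?_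
  rcases mem_zGrp.1 (f k).2 with hf | hf
  · rw [show f k = 1 from Subtype.ext hf, Pi.mulSingle_one]
    exact one_mem _
  have h := List.all_eq_true.1 duals_ok k (List.mem_range.2 k.2)
  simp only [Bool.and_eq_true, List.all_eq_true, Nat.blt_eq] at h
  obtain ⟨hw, hi⟩ := h
  obtain ⟨P, hP⟩ : ∃ P, P = ((duals.getD (k : ℕ) []).reverse.map xe).prod := ⟨_, rfl⟩
  have hPe : P ∈ eGrp := hP ▸ list_prod_mem fun y hy => by
    obtain ⟨j, hj, rfl⟩ := List.mem_map.1 hy
    exact xe_eGrp j (hw j (List.mem_reverse.1 hj))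
  refine ⟨⟨P, hPe⟩, funext fun i => Subtype.ext ?_⟩
  show ⁅P, xe (2 + i)⁆ = _
  have hi' := fun q hq => Nat.eq_of_beq_eq_true (hi i (List.mem_range.2 i.2) q (List.mem_range.2 hq))
  have key : P * xe (2 + i) =
      ((if (i : ℕ) = k then [0, 1] else []).reverse.map xe).prod * (xe (2 + i) * P) :=
    eq_of_nine fun q hq => Fin.ext (by
      have h2 : ∀ a ∈ [2 + (i : ℕ)] ++ duals.getD (k : ℕ) [], a < 10 := fun a ha => by
        rcases List.mem_append.1 ha with ha | ha
        · rw [List.mem_singleton.1 ha]; omega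
        · exact hw a ha
      have h3 : ∀ a ∈ duals.getD (k : ℕ) [] ++ [2 + (i : ℕ)] ++ (if (i : ℕ) = k then [0, 1] else []), a < 10 :=
        fun a ha => by
          rcases List.mem_append.1 ha with ha | ha
          · rcases List.mem_append.1 ha with ha | ha
            · exact hw a ha
            · rw [List.mem_singleton.1 ha]; omega
          · split at ha <;> simp at ha <;> omega
      have e1 := eApp_prod _ h2 (genPt q hq)
      have e2 := eApp_prod _ h3 (genPt q hq)
      simp only [List.reverse_append, List.map_append, List.prod_append, List.reverse_singleton, List.map_cons,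
        List.map_nil, List.prod_cons, List.prod_nil, mul_one, ← hP] at e1 e2
      rw [e1, e2]
      exact hi' q hq)
  rw [commutatorElement_def]
  by_cases hik : i = k
  · subst hik
    rw [Pi.mulSingle_eq_same, key, if_pos rfl, hf]
    simp only [List.reverse_cons, List.reverse_nil, List.nil_append, List.cons_append, List.map_cons, List.map_nil,
      List.prod_cons, List.prod_nil, mul_one, xe_zero, xe_one, ← gb_nb.2.2.eq]
    rw [← gz]
    group
  · rw [Pi.mulSingle_eq_of_ne hik, key, if_neg fun h => hik (Fin.ext h)]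
    simp only [List.reverse_nil, List.map_nil, List.prod_nil, one_mul, OneMemClass.coe_one]
    group

theorem ga_eGrp : Transp.ga ∈ eGrp := xe_zero ▸ xe_eGrp 0 (by norm_num)

theorem gb_eGrp : gb ∈ eGrp := xe_one ▸ xe_eGrp 1 (by norm_num)

theorem four_ne : Transp.ga ≠ 1 ∧ gb ≠ 1 ∧ Transp.ga ≠ gb ∧ Transp.ga ≠ gz ∧ gb ≠ gz := by
  have hga : Transp.ga ≠ 1 := fun h => by
    have := Transp.isThreeTranspositionSet.1 _ (Transp.mem_class.2 ⟨1, by simp⟩ : Transp.ga ∈ conjugatesOf Transp.ga)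
    rw [h, orderOf_one] at this
    exact absurd this (by norm_num)
  have hgb : gb ≠ 1 := fun h => by
    have := Transp.isThreeTranspositionSet.1 _ (tp_mem p7)
    rw [show cls22.tp p7 = gb from rfl, h, orderOf_one] at this
    exact absurd this (by norm_num)
  refine ⟨hga, hgb, fun h => gb_nb.2.1 h.symm, fun h => hgb ?_, fun h => hga ?_⟩
  · exact mul_eq_left.1 h.symm
  · exact mul_eq_right.1 h.symm

/-- the centre of the normal subgroup is generated by the pair -/
theorem eGrp_centre {x : Cfsg.Spor.Fi22} (hx : x ∈ eGrp) (h : ∀ y ∈ eGrp, x * y = y * x) :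
    x = 1 ∨ x = Transp.ga ∨ x = gb ∨ x = gz := by
  have hker : Nat.card formHom.ker = 4 := by
    have e := Subgroup.card_eq_card_quotient_mul_card_subgroup formHom.ker
    rw [Nat.card_congr (QuotientGroup.quotientKerEquivOfSurjective formHom formHom_surjective).toEquiv, card_eGrp,
      Nat.card_pi, Finset.prod_const, Finset.card_univ, Fintype.card_fin,
      show Nat.card zGrp = 2 from (Nat.card_zpowers gz).trans orderOf_gz] at e
    omega
  have hS : ∀ v ∈ ({1, Transp.ga, gb, gz} : Set Cfsg.Spor.Fi22), v ∈ formHom.ker.map eGrp.subtype := by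
    have hlow : ∀ j < 2, ∀ k : Fin 8, ⁅xe j, xe (2 + (k : ℕ))⁆ = 1 := fun j hj k =>
      commutatorElement_eq_one_iff_mul_comm.2 (xe_low (2 + k) j (by omega) hj)
    have hga : Transp.ga ∈ formHom.ker.map eGrp.subtype :=
      ⟨⟨Transp.ga, ga_eGrp⟩, funext fun k => Subtype.ext ((congrArg (fun u => ⁅u, xe (2 + (k : ℕ))⁆) xe_zero.symm).trans (hlow 0 (by norm_num) k)), rfl⟩
    have hgb : gb ∈ formHom.ker.map eGrp.subtype :=
      ⟨⟨gb, gb_eGrp⟩, funext fun k => Subtype.ext ((congrArg (fun u => ⁅u, xe (2 + (k : ℕ))⁆) xe_one.symm).trans (hlow 1 (by norm_num) k)), rfl⟩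
    rintro v (rfl | rfl | rfl | rfl)
    exacts [one_mem _, hga, hgb, mul_mem hga hgb]
  obtain ⟨n1, n2, n3, n4, n5⟩ := four_ne
  have heq : ({1, Transp.ga, gb, gz} : Set Cfsg.Spor.Fi22) = (formHom.ker.map eGrp.subtype : Set Cfsg.Spor.Fi22) := by
    refine Set.eq_of_subset_of_ncard_le hS ?_ (Set.toFinite _)
    rw [← Nat.card_coe_set_eq]
    refine le_of_eq_of_le ((Subgroup.card_map_of_injective eGrp.subtype_injective).trans hker) ?_
    rw [Set.ncard_insert_of_notMem (by simp [Ne.symm n1, Ne.symm n2, Ne.symm gz_ne]),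
      Set.ncard_insert_of_notMem (by simp [n3, n4]), Set.ncard_pair n5]
  have hxk : x ∈ (formHom.ker.map eGrp.subtype : Set Cfsg.Spor.Fi22) := ⟨⟨x, hx⟩, funext fun k => Subtype.ext
    (commutatorElement_eq_one_iff_mul_comm.2 (h _ (xe_eGrp _ (by omega)))), rfl⟩
  rw [← heq] at hxk
  simpa using hxk

theorem gz_fix {i : Fin Perm.data.n} (hi : inW i = true) : π gz i = i := by
  obtain ⟨-, -, h3, h4⟩ := (inW_iff i).1 hi
  have e1 : π Transp.ga i = i := tp_zero ▸ (adj_iff i₀ i).1 h3
  have e2 : π gb i = i := (adj_iff p7 i).1 h4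
  rw [gz, map_mul, Equiv.Perm.mul_apply, e2, e1]

theorem seps_ok : (seps.all fun w => w.all fun k => Nat.blt k 10) = true ∧
    (allBelow 3510 fun i => !inW i || allBelow 45 fun j =>
      !(seps.all fun w => Nat.beq (eApp w i) i == Nat.beq (eApp w (reps.getD j 0)) (reps.getD j 0)) ||
        Nat.beq (blk i) j) = true := by
  decide +kernel

/-- an element centralising the normal subgroup up to the product of the pair lies in it -/
theorem mem_eGrp_of_centralise {c : Cfsg.Spor.Fi22} (hc : c ∈ cGrp)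
    (h : ∀ e ∈ eGrp, c * e * c⁻¹ = e ∨ c * e * c⁻¹ = gz * e) : c ∈ eGrp := by
  suffices hb : (⟨c, hc⟩ : cGrp) ∈ blkHom.ker by
    rw [blocks_main.1] at hb
    exact Subgroup.mem_subgroupOf.1 hb
  refine MonoidHom.mem_ker.2 (Equiv.ext fun j => Fin.ext ?_)
  show blk (π c (rep j)) = j
  have hi := inW_cGrp hc (inW_rep j)
  have h2 := allBelow_spec seps_ok.2 _ (π c (rep j)).2
  rw [hi, Bool.not_true, Bool.false_or] at h2
  have h3 := allBelow_spec h2 j j.2
  rw [Bool.or_eq_true] at h3
  rcases h3 with h3 | h3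
  swap
  · exact Nat.eq_of_beq_eq_true h3
  exfalso
  rw [Bool.not_eq_true', ← Bool.not_eq_true] at h3
  refine h3 (List.all_eq_true.2 fun w hw => ?_)
  have hw' : ∀ k ∈ w, k < 10 := fun k hk =>
    Nat.blt_eq ▸ List.all_eq_true.1 (List.all_eq_true.1 seps_ok.1 w hw) k hk
  obtain ⟨e, he⟩ : ∃ e, e = (w.reverse.map xe).prod := ⟨_, rfl⟩
  have hee : e ∈ eGrp := he ▸ list_prod_mem fun y hy => by
    obtain ⟨k, hk, rfl⟩ := List.mem_map.1 hy
    exact xe_eGrp k (hw' k (List.mem_reverse.1 hk))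
  have key : π e (π c (rep j)) = π c (π e (rep j)) := by
    have hce : π (c * e) (rep j) = π (e * c) (rep j) := by
      rcases h e hee with q | q <;> rw [mul_inv_eq_iff_eq_mul] at q <;> rw [q]
      rw [mul_assoc, map_mul π gz, Equiv.Perm.mul_apply]
      exact gz_fix (by rw [map_mul, Equiv.Perm.mul_apply]; exact inW_cGrp (kGrp_le.1 (eGrp_le hee)) hi)
    rw [map_mul, map_mul, Equiv.Perm.mul_apply, Equiv.Perm.mul_apply] at hce
    exact hce.symm
  have hv : ∀ i : Fin Perm.data.n, eApp w i = ((π e i : Fin Perm.data.n) : ℕ) := fun i => by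
    rw [he]; exact (eApp_prod w hw' i).symm
  have hr : eApp w (reps.getD (j : ℕ) 0) = ((π e (rep j) : Fin Perm.data.n) : ℕ) := hv (rep j)
  rw [beq_iff_eq, Bool.eq_iff_iff, Nat.beq_eq, Nat.beq_eq, hv, hr, ← Fin.ext_iff, key,
    (π c).injective.eq_iff]
  exact Fin.ext_iff

/-- a word moving the pair into the normal subgroup -/
def gw : List ℕ :=
  [1, 0, 2, 1, 3, 3, 7, 6, 5, 4, 3, 2, 1, 0, 1, 2, 3, 4, 5, 6, 7, 3, 4, 2, 3, 7, 5, 4, 3, 2, 1, 0, 1, 2, 3, 4, 5,
    7, 3, 2, 4, 2, 1, 0, 1, 2]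

theorem gw_ok : (gw.all fun k => Nat.blt k 9) = true ∧ ((List.range 9).all fun q =>
    Nat.beq (Strict.appS Perm.data gw (eApp [1, 0] (genPts.getD q 0)))
      (eApp [2] (Strict.appS Perm.data gw (genPts.getD q 0)))) = true ∧
    ((List.range 9).all fun q => Nat.beq (eApp [2] (genPts.getD q 0)) (eApp [1, 0] (genPts.getD q 0))) = false := by
  decide +kernel

/-- a conjugate of the product of the pair in the normal subgroup -/
theorem gz_conj : el gw * gz * (el gw)⁻¹ = xe 2 ∧ xe 2 ≠ gz := by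
  obtain ⟨g1, g2, g3⟩ := gw_ok
  have hgw : ∀ k ∈ gw, k < 9 := fun k hk => Nat.blt_eq ▸ List.all_eq_true.1 g1 k hk
  have hz : ∀ i : Fin Perm.data.n, ((π gz i : Fin Perm.data.n) : ℕ) = eApp [1, 0] i := fun i => by
    rw [← eApp_prod [1, 0] (by simp) i]
    simp [gz, xe_zero, xe_one]
  have h2 : ∀ i : Fin Perm.data.n, ((π (xe 2) i : Fin Perm.data.n) : ℕ) = eApp [2] i := fun i => by
    rw [← eApp_prod [2] (by simp) i]
    simp
  constructor
  · rw [mul_inv_eq_iff_eq_mul]
    refine eq_of_nine fun q hq => Fin.ext ?_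
    rw [map_mul, map_mul, Equiv.Perm.mul_apply, Equiv.Perm.mul_apply, el_img gw hgw, hz, h2, el_img gw hgw]
    exact Nat.eq_of_beq_eq_true (List.all_eq_true.1 g2 q (List.mem_range.2 hq))
  · intro h
    rw [← Bool.not_eq_true, List.all_eq_true] at g3
    refine g3 fun q hq => ?_
    rw [Nat.beq_eq, show genPts.getD q 0 = ((genPt q (List.mem_range.1 hq) : Fin Perm.data.n) : ℕ) from rfl, ← h2, ← hz, h]

end CfsgLib.Spor.Fi22.PairCent
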